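import Cfsg.Agent.H661.SporAlt
import Cfsg.Agent.H661.SporCount
import Cfsg.Agent.H706.RealBasic

/-!
# Sporadic rows of REALB0: common tools (helper809)

`R p X` abbreviates `H722.RealP.HasReal p X` (a real element of order `p`, inverted by a 2-element).
-/

set_option autoImplicit false

namespace Cfsg.Agent.H809.RealB0

open Subgroup Cfsg.Agent.H661.Spor Equiv Equiv.Perm

/-- a real element of order `p` gives a real character in the principal block -/
theorem of_real {G : Type*} [Group G] [Finite G] {p : ℕ} [hp : Fact p.Prime]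
    (h : H722.RealP.HasReal p G) : H702.RealB0.HasReal p G := by
  obtain ⟨x, hx, hc⟩ := h.isConj
  exact H706.RealB.hasReal_of_isConj_inv (by rw [hx]) hc

/-- the primes dividing a factored number -/
theorem prime_mem {p : ℕ} (hp : p.Prime) (l : List (ℕ × ℕ)) (hl : ∀ q ∈ l, q.1.Prime) {N : ℕ}
    (hN : N = (l.map fun q => q.1 ^ q.2).prod) (h : p ∣ N) : p ∈ l.map Prod.fst := by
  rw [hN] at h
  obtain ⟨a, ha, hpa⟩ := (Prime.dvd_prod_iff hp.prime).1 h
  obtain ⟨q, hq, rfl⟩ := List.mem_map.1 ha
  exact List.mem_map.2 ⟨q, hq, ((Nat.prime_dvd_prime_iff_eq hp (hl q hq)).1 (hp.dvd_of_dvd_pow hpa)).symm⟩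

/-- the embedding of alternating groups -/
theorem alt_mono {p m n : ℕ} (hmn : m ≤ n) (h : H722.RealP.HasReal p (alternatingGroup (Fin m))) :
    H722.RealP.HasReal p (alternatingGroup (Fin n)) := by
  classical
  let e : Fin m ≃ {i : Fin n // i ∈ Set.range (Fin.castLE hmn)} :=
    Equiv.ofInjective _ (Fin.castLE_injective hmn)
  let f : Perm (Fin m) →* Perm (Fin n) := Equiv.Perm.extendDomainHom e
  have hf : Function.Injective f := Equiv.Perm.extendDomainHom_injective e
  have hs : ∀ g : Perm (Fin m), sign (f g) = sign g := fun g => Equiv.Perm.sign_extendDomain g e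
  let F : alternatingGroup (Fin m) →* alternatingGroup (Fin n) :=
    (f.comp (alternatingGroup (Fin m)).subtype).codRestrict (alternatingGroup (Fin n)) (fun g => by
      rw [mem_alternatingGroup, MonoidHom.comp_apply, hs]
      exact mem_alternatingGroup.1 g.2)
  refine h.map_injective F ?_
  intro a b hab
  apply Subtype.ext
  apply hf
  exact congrArg Subtype.val hab

def x3 : Perm (Fin 5) := c[0, 1, 2]
def t3 : Perm (Fin 5) := swap 1 2 * swap 3 4
def x5 : Perm (Fin 5) := c[0, 1, 2, 3, 4]
def t5 : Perm (Fin 5) := swap 1 4 * swap 2 3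

theorem alt_three_five {p : ℕ} [Fact p.Prime] {x t : Perm (Fin 5)} (h1 : x ^ p = 1) (h2 : x ≠ 1) (h3 : t ^ 2 = 1)
    (h4 : t ≠ 1) (h5 : t * x * t⁻¹ = x⁻¹) (hx : sign x = 1) (ht : sign t = 1) :
    H722.RealP.HasReal p (alternatingGroup (Fin 5)) := by
  refine ⟨⟨x, mem_alternatingGroup.2 hx⟩, ⟨t, mem_alternatingGroup.2 ht⟩, ?_, ⟨1, ?_⟩, ?_⟩
  · rw [Subgroup.orderOf_mk]
    exact orderOf_eq_prime h1 h2
  · rw [Subgroup.orderOf_mk, pow_one]
    exact orderOf_eq_prime h3 h4
  · exact Subtype.ext h5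

theorem alt3 {n : ℕ} (hn : 5 ≤ n) : H722.RealP.HasReal 3 (alternatingGroup (Fin n)) := by
  have : Fact (Nat.Prime 3) := ⟨by norm_num⟩
  exact alt_mono hn (alt_three_five (x := x3) (t := t3) (by decide +kernel) (by decide +kernel) (by decide +kernel)
    (by decide +kernel) (by decide +kernel) (by decide +kernel) (by decide +kernel))

theorem alt5 {n : ℕ} (hn : 5 ≤ n) : H722.RealP.HasReal 5 (alternatingGroup (Fin n)) := by
  have : Fact (Nat.Prime 5) := ⟨by norm_num⟩
  exact alt_mono hn (alt_three_five (x := x5) (t := t5) (by decide +kernel) (by decide +kernel) (by decide +kernel)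
    (by decide +kernel) (by decide +kernel) (by decide +kernel) (by decide +kernel))

end Cfsg.Agent.H809.RealB0
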