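import Mathlib
import Cfsg.Agent.H139.RealB0.Crit

/-!
# Self-paired double cosets from their sizes (helper809)

`selfpaired_of_inf`: representatives `w i` of the `H`-`H` double cosets such that the orders of the intersections
`H ∩ w i H (w i)⁻¹` are distinct: every double coset is self-inverse.
`selfpaired_of_class`: the same for a function `κ` describing the double cosets with classes of distinct sizes.
`selfpaired_of_action`: the same for the orbits of a point stabiliser.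
-/

set_option autoImplicit false

namespace Cfsg.Agent.H809.RealB0

open Subgroup

universe u

variable {S : Type u} [Group S]

/-- representatives with distinct orders of the intersections `H ∩ H^x` -/
theorem selfpaired_of_inf (H : Subgroup S) {ι : Type*} (w : ι → S)
    (hcov : ∀ g : S, ∃ i, ∃ a ∈ H, ∃ b ∈ H, g = a * w i * b)
    (hinj : ∀ i j, Nat.card (H ⊓ H.map (MulAut.conj (w i)).toMonoidHom : Subgroup S) =
      Nat.card (H ⊓ H.map (MulAut.conj (w j)).toMonoidHom : Subgroup S) → i = j) :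
    ∀ x : S, ∃ a ∈ H, ∃ b ∈ H, x⁻¹ = a * x * b := by
  -- the order of the intersection
  let f : S → ℕ := fun x => Nat.card (H ⊓ H.map (MulAut.conj x).toMonoidHom : Subgroup S)
  have hmem : ∀ x y : S, y ∈ H ⊓ H.map (MulAut.conj x).toMonoidHom ↔ y ∈ H ∧ x⁻¹ * y * x ∈ H := by
    intro x y
    rw [mem_inf, mem_map]
    refine and_congr_right fun _ => ⟨?_, fun h => ⟨_, h, ?_⟩⟩
    · rintro ⟨z, hz, rfl⟩
      have : x⁻¹ * ((MulAut.conj x).toMonoidHom z) * x = z := by
        show x⁻¹ * (x * z * x⁻¹) * x = z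
        group
      rwa [this]
    · show x * (x⁻¹ * y * x) * x⁻¹ = y
      group
  have hf : ∀ x a b : S, a ∈ H → b ∈ H → f (a * x * b) = f x := by
    intro x a b ha hb
    refine Nat.card_congr (Equiv.subtypeEquiv (MulAut.conj a⁻¹).toEquiv fun y => ?_)
    rw [hmem, hmem]
    show y ∈ H ∧ _ ↔ a⁻¹ * y * a⁻¹⁻¹ ∈ H ∧ x⁻¹ * (a⁻¹ * y * a⁻¹⁻¹) * x ∈ H
    rw [inv_inv]
    refine and_congr ?_ ?_
    · constructor
      · exact fun h => H.mul_mem (H.mul_mem (H.inv_mem ha) h) ha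
      · intro h
        have := H.mul_mem (H.mul_mem ha h) (H.inv_mem ha)
        have e : a * (a⁻¹ * y * a) * a⁻¹ = y := by group
        rwa [e] at this
    · constructor
      · intro h
        have := H.mul_mem (H.mul_mem hb h) (H.inv_mem hb)
        have e : b * ((a * x * b)⁻¹ * y * (a * x * b)) * b⁻¹ = x⁻¹ * (a⁻¹ * y * a) * x := by group
        rwa [e] at this
      · intro h
        have := H.mul_mem (H.mul_mem (H.inv_mem hb) h) hb
        have e : b⁻¹ * (x⁻¹ * (a⁻¹ * y * a) * x) * b = (a * x * b)⁻¹ * y * (a * x * b) := by group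
        rwa [e] at this
  have hinv : ∀ x : S, f x⁻¹ = f x := by
    intro x
    refine Nat.card_congr (Equiv.subtypeEquiv (MulAut.conj x).toEquiv fun y => ?_)
    rw [hmem, hmem]
    show y ∈ H ∧ x⁻¹⁻¹ * y * x⁻¹ ∈ H ↔ x * y * x⁻¹ ∈ H ∧ x⁻¹ * (x * y * x⁻¹) * x ∈ H
    have e : x⁻¹ * (x * y * x⁻¹) * x = y := by group
    rw [inv_inv, e, and_comm]
  intro x
  obtain ⟨i, a, ha, b, hb, hx⟩ := hcov x
  obtain ⟨j, c, hc, d, hd, hy⟩ := hcov x⁻¹
  have h1 : f (w i) = f (w j) := by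
    rw [← hf (w i) a b ha hb, ← hx, ← hinv, hy, hf (w j) c d hc hd]
  have hij := hinj i j h1
  subst hij
  refine ⟨c * a⁻¹, H.mul_mem hc (H.inv_mem ha), b⁻¹ * d, H.mul_mem (H.inv_mem hb) hd, ?_⟩
  rw [hy]
  conv_rhs => rw [hx]
  group

/-- a class function with classes the double cosets, of distinct sizes -/
theorem selfpaired_of_class (H : Subgroup S) {ι : Type*} (κ : S → ι)
    (hκ : ∀ x y : S, κ x = κ y ↔ ∃ a ∈ H, ∃ b ∈ H, y = a * x * b)
    (hinj : ∀ x y : S, Nat.card {z : S // κ z = κ x} = Nat.card {z : S // κ z = κ y} → κ x = κ y) :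
    ∀ x : S, ∃ a ∈ H, ∃ b ∈ H, x⁻¹ = a * x * b := by
  intro x
  rw [← hκ]
  apply hinj
  refine Nat.card_congr (Equiv.subtypeEquiv (Equiv.inv S) fun z => ?_)
  rw [eq_comm, hκ, eq_comm, hκ]
  show _ ↔ ∃ a ∈ H, ∃ b ∈ H, z⁻¹ = a * x⁻¹ * b
  constructor
  · rintro ⟨a, ha, b, hb, rfl⟩
    exact ⟨b⁻¹, H.inv_mem hb, a⁻¹, H.inv_mem ha, by group⟩
  · rintro ⟨a, ha, b, hb, h⟩
    refine ⟨b⁻¹, H.inv_mem hb, a⁻¹, H.inv_mem ha, ?_⟩
    rw [← inv_inv z, h]
    group

/-- an action with suborbits of distinct lengths -/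
theorem selfpaired_of_action [Finite S] {X : Type*} [MulAction S X] (x₀ : X)
    (hinj : ∀ y z : X, y ∈ MulAction.orbit S x₀ → z ∈ MulAction.orbit S x₀ →
      Nat.card (MulAction.orbit (MulAction.stabilizer S x₀) y) =
      Nat.card (MulAction.orbit (MulAction.stabilizer S x₀) z) → ∃ h ∈ MulAction.stabilizer S x₀, h • y = z) :
    ∀ x : S, ∃ a ∈ MulAction.stabilizer S x₀, ∃ b ∈ MulAction.stabilizer S x₀, x⁻¹ = a * x * b := by
  intro x
  let H := MulAction.stabilizer S x₀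
  have hst : ∀ x : S, Nat.card (MulAction.orbit H (x • x₀)) *
      Nat.card {h : S // h ∈ H ∧ x⁻¹ * h * x ∈ H} = Nat.card H := by
    intro x
    rw [← Nat.card_congr (MulAction.orbitProdStabilizerEquivGroup H (x • x₀)), Nat.card_prod]
    congr 1
    refine Nat.card_congr ?_
    refine
      { toFun := fun h => ⟨⟨h.1, h.2.1⟩, ?_⟩
        invFun := fun h => ⟨h.1, h.1.2, ?_⟩
        left_inv := fun h => rfl
        right_inv := fun h => rfl }
    · rw [MulAction.mem_stabilizer_iff]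
      show h.1 • x • x₀ = x • x₀
      have h2 := MulAction.mem_stabilizer_iff.1 h.2.2
      rw [mul_smul, mul_smul, inv_smul_eq_iff] at h2
      exact h2
    · have h2 : h.1.1 • x • x₀ = x • x₀ := MulAction.mem_stabilizer_iff.1 h.2
      show _ ∈ MulAction.stabilizer S x₀
      rw [MulAction.mem_stabilizer_iff, mul_smul, mul_smul, inv_smul_eq_iff]
      exact h2
  have hc : Nat.card {h : S // h ∈ H ∧ x⁻¹ * h * x ∈ H} = Nat.card {h : S // h ∈ H ∧ x⁻¹⁻¹ * h * x⁻¹ ∈ H} := by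
    refine Nat.card_congr (Equiv.subtypeEquiv (MulAut.conj x⁻¹).toEquiv fun y => ?_)
    show _ ↔ x⁻¹ * y * x⁻¹⁻¹ ∈ H ∧ x⁻¹⁻¹ * (x⁻¹ * y * x⁻¹⁻¹) * x⁻¹ ∈ H
    have e : x⁻¹⁻¹ * (x⁻¹ * y * x⁻¹⁻¹) * x⁻¹ = y := by group
    rw [e, inv_inv, and_comm]
  have hpos : 0 < Nat.card {h : S // h ∈ H ∧ x⁻¹⁻¹ * h * x⁻¹ ∈ H} := by
    have : Nonempty {h : S // h ∈ H ∧ x⁻¹⁻¹ * h * x⁻¹ ∈ H} :=
      ⟨⟨1, H.one_mem, by rw [inv_inv, mul_one, mul_inv_cancel]; exact H.one_mem⟩⟩
    exact Nat.card_pos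
  have h1 := hst x
  have h2 := hst x⁻¹
  rw [hc, ← h2] at h1
  have h3 := Nat.eq_of_mul_eq_mul_right hpos h1
  obtain ⟨h, hh, e⟩ := hinj _ _ ⟨x, rfl⟩ ⟨x⁻¹, rfl⟩ h3
  replace e : h • x • x₀ = x⁻¹ • x₀ := e
  refine ⟨h, hh, x⁻¹ * h⁻¹ * x⁻¹, ?_, by group⟩
  rw [MulAction.mem_stabilizer_iff, mul_smul, mul_smul, ← e, inv_smul_smul, inv_smul_smul]

/-- representatives whose double cosets consist of distinct numbers of left cosets -/
theorem selfpaired_of_orbit (H : Subgroup S) [Finite H] {ι : Type*} (w : ι → S)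
    (hcov : ∀ g : S, ∃ i, ∃ a ∈ H, ∃ b ∈ H, g = a * w i * b)
    (hinj : ∀ i j, Nat.card (MulAction.orbit H ((w i : S) : S ⧸ H)) =
      Nat.card (MulAction.orbit H ((w j : S) : S ⧸ H)) → i = j) :
    ∀ x : S, ∃ a ∈ H, ∃ b ∈ H, x⁻¹ = a * x * b := by
  have hst : ∀ x : S, Nat.card (MulAction.orbit H ((x : S) : S ⧸ H)) *
      Nat.card (H ⊓ H.map (MulAut.conj x).toMonoidHom : Subgroup S) = Nat.card H := by
    intro x
    rw [← Nat.card_congr (MulAction.orbitProdStabilizerEquivGroup H ((x : S) : S ⧸ H)), Nat.card_prod]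
    congr 1
    have key : ∀ h : S, h • ((x : S) : S ⧸ H) = (x : S) ↔ x⁻¹ * h * x ∈ H := by
      intro h
      show ((h * x : S) : S ⧸ H) = (x : S) ↔ _
      rw [eq_comm, QuotientGroup.eq, mul_assoc]
    have hmem : ∀ y : S, y ∈ H.map (MulAut.conj x).toMonoidHom ↔ x⁻¹ * y * x ∈ H := by
      intro y
      rw [mem_map]
      constructor
      · rintro ⟨z, hz, rfl⟩
        have : x⁻¹ * ((MulAut.conj x).toMonoidHom z) * x = z := by
          show x⁻¹ * (x * z * x⁻¹) * x = z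
          group
        rwa [this]
      · intro h
        refine ⟨_, h, ?_⟩
        show x * (x⁻¹ * y * x) * x⁻¹ = y
        group
    refine Nat.card_congr ?_
    refine
      { toFun := fun h => ⟨⟨h.1, h.2.1⟩, ?_⟩
        invFun := fun h => ⟨h.1, h.1.2, ?_⟩
        left_inv := fun h => rfl
        right_inv := fun h => rfl }
    · rw [MulAction.mem_stabilizer_iff]
      exact (key h.1).2 ((hmem _).1 h.2.2)
    · exact (hmem _).2 ((key _).1 (MulAction.mem_stabilizer_iff.1 h.2))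
  refine selfpaired_of_inf H w hcov fun i j hij => hinj i j ?_
  have h1 := hst (w i)
  have h2 := hst (w j)
  rw [hij, ← h2] at h1
  refine Nat.eq_of_mul_eq_mul_right ?_ h1
  have : Finite (H ⊓ H.map (MulAut.conj (w j)).toMonoidHom : Subgroup S) :=
    Finite.of_injective (Subgroup.inclusion inf_le_left) (Subgroup.inclusion_injective _)
  exact Nat.card_pos

/-- orbits of distinct lengths adding up to the number of points -/
theorem cover_of_sum {G : Type*} [Group G] {α : Type*} [MulAction G α] [Finite α] {n : ℕ} (q : Fin n → α)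
    (hinj : ∀ i j, Nat.card (MulAction.orbit G (q i)) = Nat.card (MulAction.orbit G (q j)) → i = j)
    (hsum : ∑ i, Nat.card (MulAction.orbit G (q i)) = Nat.card α) (x : α) : ∃ i, x ∈ MulAction.orbit G (q i) := by
  let f : (Σ i, MulAction.orbit G (q i)) → α := fun y => y.2
  have hf : Function.Injective f := by
    rintro ⟨i, y, hy⟩ ⟨j, z, hz⟩ h
    have h1 : y = z := h
    subst h1
    have h2 : i = j := by
      apply hinj
      rw [← MulAction.orbit_eq_iff.2 hy, ← MulAction.orbit_eq_iff.2 hz]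
    subst h2
    rfl
  have hb : Function.Bijective f := hf.bijective_of_nat_card_le (by
    rw [Nat.card_sigma, hsum])
  obtain ⟨⟨i, y⟩, h⟩ := hb.2 x
  exact ⟨i, by rw [← h]; exact y.2⟩

/-- orbits of `H` on the cosets, of distinct lengths adding up to the index -/
theorem selfpaired_of_sum (H : Subgroup S) [Finite S] {n : ℕ} (q : Fin n → S ⧸ H) (v : Fin n → ℕ)
    (hv : ∀ i, Nat.card (MulAction.orbit H (q i)) = v i) (hinj : Function.Injective v)
    (hsum : ∑ i, v i = H.index) : ∀ x : S, ∃ a ∈ H, ∃ b ∈ H, x⁻¹ = a * x * b := by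
  have hq : ∀ i, ∃ w : S, (w : S ⧸ H) = q i := fun i => QuotientGroup.mk_surjective (q i)
  choose w hw using hq
  refine selfpaired_of_orbit H w (fun g => ?_) fun i j hij => ?_
  · obtain ⟨i, ⟨h, hh⟩, e⟩ := cover_of_sum (G := H) q (fun i j hij => hinj (by rwa [hv, hv] at hij))
      (by rw [Finset.sum_congr rfl fun i _ => hv i, hsum]; rfl) ((g : S) : S ⧸ H)
    have e1 : ((h * w i : S) : S ⧸ H) = (g : S) := by
      rw [← e, ← hw]
      rfl
    rw [QuotientGroup.eq] at e1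
    refine ⟨i, h, hh, _, e1, ?_⟩
    group
  · rw [hw, hw, hv, hv] at hij
    exact hinj hij

end Cfsg.Agent.H809.RealB0
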