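import Cfsg.Agent.H661.SporLy
import Cfsg.Agent.H809.RealB0.Common
import Cfsg.Agent.H809.RealB0.Paired
import Cfsg.Agent.Ly.Setup

/-!
# REALB0, row `Ly`

3, 5, 7: real elements of `2.A₁₁`; 31: two involutions of `G₂(5)` with product of order 31 (7 × 7 matrices over the
field with 5 elements); 11, 37, 67: the permutations of degree 8835156, of rank 5 with distinct subdegrees.
-/

set_option autoImplicit false

namespace Cfsg.Agent.H809.RealB0.Ly

open Cfsg Cfsg.Agent.H661.Spor Cfsg.Agent.Ly.Mat7 Cfsg.Agent.Ly.Cover Cfsg.Agent.Ly.Setup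

theorem real_of_alt {p : ℕ} [hp : Fact p.Prime] (hp2 : p ≠ 2) (h : H722.RealP.HasReal p (alternatingGroup (Fin 11))) :
    H722.RealP.HasReal p Cfsg.Spor.Ly :=
  HasReal_of_cover hp.out hp2 Cfsg.Agent.TypeM.FactsLy.isNonsplit_ly h

/-! ### 31 -/

/-- the conjugate of `a⁴` -/
def tw : List ℕ := [2, 0, 3, 6, 0, 0, 0, 0, 2, 7, 4, 6]

def vw : List ℕ := [0, 0, 0, 0] ++ tw

/-- powers of words -/
def pw (l : List ℕ) : ℕ → List ℕ
  | 0 => []
  | n + 1 => l ++ pw l n

theorem ev_pw {G : Type*} [Group G] (x : Fin 4 → G) (l : List ℕ) (n : ℕ) : ev x (pw l n) = ev x l ^ n := by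
  induction n with
  | zero => rw [pow_zero, pw, ev_nil]
  | succ n ih => rw [pw, ev_append, ih, pow_succ']

theorem eq31 : eqW (pw vw 31) [] = true := by decide +kernel
theorem eqs : eqW ([0, 0, 0, 0] ++ [0, 0, 0, 0]) [] = true := by decide +kernel
theorem eqt : eqW (tw ++ tw) [] = true := by decide +kernel
theorem ne31 : Nat.beq (evalK vw oneN) oneN = false := by decide +kernel

theorem ne_one : ev gen vw ≠ 1 := by
  intro h
  have h1 := evalK_spec vw oneN_ok
  have h2 := h1.2
  rw [toM_oneN, Matrix.one_mul, h, Units.val_one, ← toM_oneN] at h2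
  have h3 := toM_inj h1.1 oneN_ok h2
  have := ne31
  rw [h3, Nat.beq_refl] at this
  exact absurd this (by decide)

theorem real31 : H722.RealP.HasReal 31 Cfsg.Spor.Ly := by
  have key : ∀ l : List ℕ, eqW l [] = true → ev Cfsg.Agent.Ly.Upper.Data.hgen l = 1 := by
    intro l h
    apply Subtype.ext
    rw [Cfsg.Agent.Ly.Upper.Data.coe_ev, word_eq h, ev_nil]
    rfl
  have h : H722.RealP.HasReal 31 Hhat := by
    refine HasReal_of_dihedral (by norm_num) (s := ev Cfsg.Agent.Ly.Upper.Data.hgen [0, 0, 0, 0]) (t := ev Cfsg.Agent.Ly.Upper.Data.hgen tw) ?_ ?_ ?_ ?_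
    · rw [← ev_append]
      exact key _ eqs
    · rw [← ev_append]
      exact key _ eqt
    · rw [← ev_append, ← ev_pw]
      exact key _ eq31
    · rw [← ev_append]
      intro h
      refine ne_one ?_
      rw [← Cfsg.Agent.Ly.Upper.Data.coe_ev, vw, h]
      rfl
  exact h.map_injective psi psi_injective

/-! ### the permutations of degree 8835156 -/

theorem selfpaired : ∀ x : Cfsg.Spor.Ly, ∃ a ∈ psi.range, ∃ b ∈ psi.range, x⁻¹ = a * x * b := by
  refine selfpaired_of_inf psi.range w cover fun i j hij => ?_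
  rw [← (exact' i).1, ← (exact' j).1, (exact' i).2, (exact' j).2] at hij
  exact (by decide +kernel : ∀ i j : Fin 5, Cfsg.Agent.Ly.Cent.nn i = Cfsg.Agent.Ly.Cent.nn j → i = j) i j hij

theorem of_index {p : ℕ} (hp : p ∣ 8835156) : H702.RealB0.HasReal p Cfsg.Spor.Ly := by
  refine H139.RealB0.Crit.of_selfpaired psi.range ?_ selfpaired
  rw [index_range]
  exact hp

theorem ly_self {p : ℕ} [hp : Fact p.Prime] (hp2 : p ≠ 2) (hd : p ∣ Nat.card Cfsg.Spor.Ly) :
    H702.RealB0.HasReal p Cfsg.Spor.Ly := by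
  have hm := prime_mem hp.out [(2, 8), (3, 7), (5, 6), (7, 1), (11, 1), (31, 1), (37, 1), (67, 1)] (by norm_num)
    (by rw [card_ly]; norm_num) hd
  simp only [List.map_cons, List.map_nil, List.mem_cons, List.not_mem_nil, or_false] at hm
  rcases hm with rfl | rfl | rfl | rfl | rfl | rfl | rfl | rfl
  · exact absurd rfl hp2
  · exact of_real (real_of_alt hp2 (alt3 (by norm_num)))
  · exact of_real (real_of_alt hp2 (alt5 (by norm_num)))
  · exact of_real (real_of_alt hp2 (Alt.hasReal_alt (by norm_num)))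
  · exact of_index (by norm_num)
  · exact of_real real31
  · exact of_index (by norm_num)
  · exact of_index (by norm_num)

/-- **REALB0, row `Ly`.** -/
theorem ly {p : ℕ} [hp : Fact p.Prime] (hp2 : p ≠ 2) {X : Type*} [Group X] (hd : p ∣ Nat.card X)
    (h : Spor.IsoLy X) : H702.RealB0.HasReal p X := by
  obtain ⟨e⟩ := h
  rw [Nat.card_congr e.toEquiv] at hd
  exact (ly_self hp2 hd).congr e.symm

end Cfsg.Agent.H809.RealB0.Ly
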